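import Mathlib

/-! Incidences of a finite family of curves any two of which meet in exactly `h` points:
double counting and Fisher's inequality for the multiple points. -/

namespace Groth.Agent.Harb

open Finset

universe u v

variable {P : Type u} {ι : Type v} [Fintype ι] (inc : P → ι → Prop) (h : ℕ)

open scoped Classical in
theorem natCard_eq (p : P) :
    Nat.card {j : ι // inc p j} = (univ.filter fun j => inc p j).card := by
  rw [Nat.card_eq_fintype_card, Fintype.card_subtype]

theorem two_le_of_inc {p : P} {i j : ι} (hij : i ≠ j) (hi : inc p i) (hj : inc p j) :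
    2 ≤ Nat.card {j : ι // inc p j} := by
  classical
  rw [natCard_eq]
  have : ({i, j} : Finset ι) ⊆ univ.filter fun k => inc p k := by
    intro k hk
    rcases Finset.mem_insert.1 hk with rfl | hk
    · simp [hi]
    · rw [Finset.mem_singleton] at hk; subst hk; simp [hj]
  simpa [Finset.card_pair hij] using Finset.card_le_card this

variable (hfin : ∀ i j : ι, i ≠ j → {p : P | inc p i ∧ inc p j}.Finite)
include hfin

theorem finite_mult : {p : P | 2 ≤ Nat.card {j : ι // inc p j}}.Finite := by
  classical
  refine (Set.Finite.biUnion (Set.toFinite {q : ι × ι | q.1 ≠ q.2})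
    fun q hq => hfin q.1 q.2 hq).subset ?_
  intro p hp
  simp only [Set.mem_ofPred_eq, natCard_eq] at hp
  obtain ⟨i, hi, j, hj, hij⟩ := Finset.one_lt_card.1 hp
  simp only [Finset.mem_filter] at hi hj
  exact Set.mem_biUnion (x := (i, j)) hij ⟨hi.2, hj.2⟩

variable (hcount : ∀ i j : ι, i ≠ j → {p : P | inc p i ∧ inc p j}.ncard = h)
include hcount

open scoped Classical in
theorem card_common {i j : ι} (hij : i ≠ j) :
    ((finite_mult inc hfin).toFinset.filter fun p => inc p i ∧ inc p j).card = h := by
  rw [← hcount i j hij, ← Set.ncard_coe_finset]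
  congr 1
  ext p
  simp only [Finset.coe_filter, Set.Finite.mem_toFinset, Set.mem_ofPred_eq]
  exact ⟨fun hp => hp.2, fun hp => ⟨two_le_of_inc inc hij hp.1 hp.2, hp⟩⟩

open scoped Classical in
theorem sum_on_curve (i : ι) :
    ∑ p ∈ (finite_mult inc hfin).toFinset.filter (fun p => inc p i),
      (Nat.card {j : ι // inc p j} - 1) = h * (Fintype.card ι - 1) := by
  have key : ∀ p ∈ (finite_mult inc hfin).toFinset.filter (fun p => inc p i),
      Nat.card {j : ι // inc p j} - 1 = ∑ j ∈ univ.erase i, if inc p j then 1 else 0 := by
    intro p hp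
    rw [Finset.mem_filter] at hp
    rw [natCard_eq, ← Finset.card_filter, Finset.filter_erase,
      Finset.card_erase_of_mem (by simp [hp.2])]
  rw [Finset.sum_congr rfl key, Finset.sum_comm]
  calc _ = ∑ j ∈ univ.erase i, h := Finset.sum_congr rfl fun j hj => by
        rw [← Finset.card_filter, Finset.filter_filter]
        exact card_common inc h hfin hcount (Finset.ne_of_mem_erase hj).symm
    _ = _ := by simp [mul_comm]

theorem finsum_on_curve (i : ι) :
    ∑ᶠ p ∈ {p : P | inc p i}, (Nat.card {j : ι // inc p j} - 1)
      = h * (Fintype.card ι - 1) := by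
  classical
  rw [finsum_mem_eq_sum_of_inter_support_eq _
    (t := (finite_mult inc hfin).toFinset.filter (fun p => inc p i))]
  · exact sum_on_curve inc h hfin hcount i
  · ext p
    simp only [Set.mem_inter_iff, Set.mem_ofPred_eq, Function.mem_support, Finset.coe_filter,
      Set.Finite.mem_toFinset]
    exact ⟨fun hp => ⟨⟨by omega, hp.1⟩, hp.2⟩, fun hp => ⟨hp.1.2, hp.2⟩⟩

theorem sum_fold :
    ∑ k ∈ Finset.Icc 2 (Fintype.card ι),
        k * (k - 1) * Nat.card {p : P // Nat.card {j : ι // inc p j} = k}
      = h * (Fintype.card ι * (Fintype.card ι - 1)) := by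
  classical
  set S := (finite_mult inc hfin).toFinset with hS
  set r : P → ℕ := fun p => Nat.card {j : ι // inc p j} with hr
  have h1 : ∀ k ∈ Finset.Icc 2 (Fintype.card ι),
      k * (k - 1) * Nat.card {p : P // r p = k}
        = ∑ p ∈ S.filter (fun p => r p = k), r p * (r p - 1) := by
    intro k hk
    rw [Finset.mem_Icc] at hk
    have : Nat.card {p : P // r p = k} = (S.filter fun p => r p = k).card := by
      rw [← Nat.card_eq_finsetCard]
      refine Nat.card_congr (Equiv.subtypeEquivRight fun p => ?_)
      simp only [Finset.mem_filter, hS, Set.Finite.mem_toFinset, Set.mem_ofPred_eq, hr]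
      omega
    rw [this, Finset.sum_congr rfl (g := fun _ => k * (k - 1))
      (fun p hp => by rw [(Finset.mem_filter.1 hp).2]), Finset.sum_const, smul_eq_mul, mul_comm]
  have hmap : ∀ p ∈ S, r p ∈ Finset.Icc 2 (Fintype.card ι) := by
    intro p hp
    simp only [hS, Set.Finite.mem_toFinset, Set.mem_ofPred_eq] at hp
    refine Finset.mem_Icc.2 ⟨hp, ?_⟩
    simp only [hr, natCard_eq]
    exact Finset.card_le_univ _
  show ∑ k ∈ Finset.Icc 2 (Fintype.card ι), k * (k - 1) * Nat.card {p : P // r p = k} = _
  rw [Finset.sum_congr rfl h1, Finset.sum_fiberwise_of_maps_to hmap]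
  have h2 : ∀ p ∈ S, r p * (r p - 1) = ∑ i : ι, if inc p i then r p - 1 else 0 := by
    intro p _
    rw [← Finset.sum_filter, Finset.sum_const, smul_eq_mul, hr]
    simp only [natCard_eq]
  rw [Finset.sum_congr rfl h2, Finset.sum_comm]
  calc _ = ∑ _i : ι, h * (Fintype.card ι - 1) := Finset.sum_congr rfl fun i _ => by
        rw [← Finset.sum_filter]
        exact sum_on_curve inc h hfin hcount i
    _ = _ := by simp [Finset.card_univ]; ring

variable (hd : 2 ≤ Fintype.card ι) (hnone : ∀ p : P, ∃ i : ι, ¬ inc p i) (hh : 0 < h)
include hd hnone hh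

open scoped Classical in
theorem lt_card_on_curve (i : ι) :
    h < ((finite_mult inc hfin).toFinset.filter fun p => inc p i).card := by
  by_contra hle
  push Not at hle
  haveI : Nontrivial ι := Fintype.one_lt_card_iff_nontrivial.1 hd
  have heq : ∀ j, j ≠ i →
      ((finite_mult inc hfin).toFinset.filter fun p => inc p i ∧ inc p j)
        = (finite_mult inc hfin).toFinset.filter fun p => inc p i := by
    intro j hj
    refine Finset.eq_of_subset_of_card_le (fun p hp => ?_) ?_
    · simp only [Finset.mem_filter] at hp ⊢
      exact ⟨hp.1, hp.2.1⟩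
    · rw [card_common inc h hfin hcount hj.symm]; exact hle
  obtain ⟨j, hj⟩ := exists_ne i
  obtain ⟨p, hp⟩ := Finset.card_pos.1
    (by rw [card_common inc h hfin hcount hj.symm]; exact hh :
      0 < ((finite_mult inc hfin).toFinset.filter fun p => inc p i ∧ inc p j).card)
  rw [heq j hj] at hp
  obtain ⟨k, hk⟩ := hnone p
  by_cases hki : k = i
  · exact hk (hki ▸ (Finset.mem_filter.1 hp).2)
  · rw [← heq k hki] at hp
    exact hk (Finset.mem_filter.1 hp).2.2

theorem add_two_le : h + 2 ≤ Nat.card {p : P // 2 ≤ Nat.card {j : ι // inc p j}} := by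
  classical
  obtain ⟨i, j, hij⟩ := Fintype.exists_pair_of_one_lt_card hd
  set S := (finite_mult inc hfin).toFinset with hS
  have hc : Nat.card {p : P // 2 ≤ Nat.card {j : ι // inc p j}} = S.card := by
    rw [hS, ← Nat.card_eq_finsetCard]
    exact Nat.card_congr (Equiv.subtypeEquivRight fun p => by simp)
  have h1 := lt_card_on_curve inc h hfin hcount hd hnone hh i
  have h2 := lt_card_on_curve inc h hfin hcount hd hnone hh j
  have h3 := card_common inc h hfin hcount hij
  have h4 := Finset.card_union_add_card_inter
    (S.filter fun p => inc p i) (S.filter fun p => inc p j)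
  have h5 : (S.filter fun p => inc p i) ∩ (S.filter fun p => inc p j)
      = S.filter fun p => inc p i ∧ inc p j := by rw [← Finset.filter_and]
  have h6 : ((S.filter fun p => inc p i) ∪ (S.filter fun p => inc p j)).card ≤ S.card :=
    Finset.card_le_card (Finset.union_subset (Finset.filter_subset _ _) (Finset.filter_subset _ _))
  rw [h5] at h4
  rw [hc]
  rw [← hS] at h1 h2 h3
  omega

/-- Fisher's inequality. -/
theorem card_le_mult :
    Fintype.card ι ≤ Nat.card {p : P // 2 ≤ Nat.card {j : ι // inc p j}} := by
  classical
  set S := (finite_mult inc hfin).toFinset with hS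
  have hc : Nat.card {p : P // 2 ≤ Nat.card {j : ι // inc p j}} = Fintype.card S := by
    rw [Fintype.card_coe, hS, ← Nat.card_eq_finsetCard]
    exact Nat.card_congr (Equiv.subtypeEquivRight fun p => by simp)
  let a : ι → S → ℚ := fun i p => if inc p i then 1 else 0
  have hN : ∀ i j, ∑ p : S, a i p * a j p
      = if i = j then ((S.filter fun p => inc p i).card : ℚ) else (h : ℚ) := by
    intro i j
    have : ∑ p : S, a i p * a j p = ((S.filter fun p => inc p i ∧ inc p j).card : ℚ) := by
      rw [Finset.sum_coe_sort S (fun p => (if inc p i then (1 : ℚ) else 0) * if inc p j then 1 else 0),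
        ← Finset.sum_boole]
      refine Finset.sum_congr rfl fun p _ => ?_
      by_cases h1 : inc p i <;> by_cases h2 : inc p j <;> simp [h1, h2]
    rw [this]
    split_ifs with hij
    · subst hij; simp
    · rw [card_common inc h hfin hcount hij]
  have hli : LinearIndependent ℚ a := by
    rw [Fintype.linearIndependent_iff]
    intro c hc0 i
    have h0 : ∑ p : S, (∑ i, c i * a i p) ^ 2 = 0 := by
      refine Finset.sum_eq_zero fun p _ => ?_
      have := congrFun hc0 p
      simp only [Finset.sum_apply, Pi.smul_apply, smul_eq_mul, Pi.zero_apply] at this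
      rw [this]; ring
    have h1 : ∑ p : S, (∑ i, c i * a i p) ^ 2
        = ∑ i, (((S.filter fun p => inc p i).card : ℚ) - h) * c i ^ 2 + h * (∑ i, c i) ^ 2 := by
      calc ∑ p : S, (∑ i, c i * a i p) ^ 2
          = ∑ i, ∑ j, c i * c j * ∑ p : S, a i p * a j p := by
            simp only [sq, Finset.sum_mul, Finset.mul_sum]
            rw [Finset.sum_comm]
            refine Finset.sum_congr rfl fun i _ => ?_
            rw [Finset.sum_comm]
            exact Finset.sum_congr rfl fun j _ => Finset.sum_congr rfl fun p _ => by ring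
        _ = ∑ i, ∑ j, ((h : ℚ) * (c i * c j) +
              if i = j then (((S.filter fun p => inc p i).card : ℚ) - h) * (c i * c j) else 0) := by
            refine Finset.sum_congr rfl fun i _ => Finset.sum_congr rfl fun j _ => ?_
            rw [hN i j]
            split_ifs <;> ring
        _ = _ := by
            simp only [Finset.sum_add_distrib, Finset.sum_ite_eq, Finset.mem_univ, if_true]
            rw [add_comm]
            congr 1
            · exact Finset.sum_congr rfl fun i _ => by ring
            · rw [sq, Finset.sum_mul_sum, Finset.mul_sum]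
              exact Finset.sum_congr rfl fun i _ => (Finset.mul_sum _ _ _).symm
    have hpos : ∀ i, (0 : ℚ) < ((S.filter fun p => inc p i).card : ℚ) - h := fun i => by
      have := lt_card_on_curve inc h hfin hcount hd hnone hh i
      rw [← hS] at this
      rw [sub_pos]; exact_mod_cast this
    have h2 : ∑ i, (((S.filter fun p => inc p i).card : ℚ) - h) * c i ^ 2 = 0 := by
      have hA : (0 : ℚ) ≤ ∑ i, (((S.filter fun p => inc p i).card : ℚ) - h) * c i ^ 2 :=
        Finset.sum_nonneg fun i _ => mul_nonneg (hpos i).le (sq_nonneg _)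
      have hB : (0 : ℚ) ≤ (h : ℚ) * (∑ i, c i) ^ 2 := mul_nonneg (by positivity) (sq_nonneg _)
      linarith [h0.symm.trans h1]
    have h3 := (Finset.sum_eq_zero_iff_of_nonneg
      fun i _ => mul_nonneg (hpos i).le (sq_nonneg (c i))).1 h2 i (Finset.mem_univ i)
    simpa [(hpos i).ne'] using h3
  have := hli.fintype_card_le_finrank
  rw [Module.finrank_pi] at this
  rw [hc]; exact this

end Groth.Agent.Harb
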